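import Cfsg.Agent.Lib.Helper5.MS.Inst
import Cfsg.Agent.Lib.Helper5.UC.DtE8
import Cfsg.Agent.Lib.Helper5.UC.Mult
import Mathlib

/-!
# The group presented by Steinberg's relations (R1), (R2) of type `E₈` is centrally closed over
every field; the Schur multiplier of `E₈(q)` is trivial for every `q` (helper5)
-/

set_option autoImplicit false
set_option maxRecDepth 100000

namespace Cfsg.Agent.Lib.Helper5.MS.E8

open Cfsg.Lie Cfsg.Agent.Lib.Helper5.Chev Cfsg.Agent.Lib.Helper5.St Cfsg.Agent.Lib.Helper5.Tw
  Cfsg.Agent.Lib.Helper5.UC Cfsg.Agent.Lib.Helper5.MS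

theorem base_239 : PairOK chevE8 239 239 where
  symm := rfl
  le := by decide +kernel
  eq := fun _ => rfl
  neg := by decide +kernel
  comm0 := fun _ h => absurd rfl h
  sum := fun h => absurd h (by decide +kernel)
  room1 := fun _ => ⟨120, by decide, by decide +kernel, by decide +kernel, by decide +kernel⟩
  room2 := fun h => absurd h (by decide +kernel)

theorem base_0 : PairOK chevE8 239 0 where
  symm := by decide +kernel
  le := by decide +kernel
  eq := fun h => absurd h (by decide +kernel)
  neg := by decide +kernel
  comm0 := fun h => absurd h (by decide +kernel)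
  sum := fun h => absurd h (by decide +kernel)
  room1 := fun h => absurd h (by decide +kernel)
  room2 := fun h => absurd h (by decide +kernel)

theorem base_1 : PairOK chevE8 239 1 where
  symm := by decide +kernel
  le := by decide +kernel
  eq := fun h => absurd h (by decide +kernel)
  neg := by decide +kernel
  comm0 := fun h => absurd h (by decide +kernel)
  sum := fun _ => ⟨120, 1, by decide +kernel, by decide, by decide, by decide +kernel⟩
  room1 := fun h => absurd h (by decide +kernel)
  room2 := fun _ => ⟨2, by decide, by decide +kernel, by decide +kernel⟩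

theorem base_13 : PairOK chevE8 239 13 where
  symm := by decide +kernel
  le := by decide +kernel
  eq := fun h => absurd h (by decide +kernel)
  neg := by decide +kernel
  comm0 := fun _ _ => by decide +kernel
  sum := fun h => absurd h (by decide +kernel)
  room1 := fun _ => ⟨168, by decide, by decide +kernel, by decide +kernel, by decide +kernel⟩
  room2 := fun h => absurd h (by decide +kernel)

theorem base_120 : PairOK chevE8 239 120 where
  symm := by decide +kernel
  le := by decide +kernel
  eq := fun h => absurd h (by decide +kernel)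
  neg := by decide +kernel
  comm0 := fun _ _ => by decide +kernel
  sum := fun h => absurd h (by decide +kernel)
  room1 := fun _ => ⟨122, by decide, by decide +kernel, by decide +kernel, by decide +kernel⟩
  room2 := fun h => absurd h (by decide +kernel)

/-- all the table facts for `E₈` -/
theorem slok : SLOK chevE8 := by
  apply slok_of_base (DtE8.uctx ℚ) CmE8.g1 CmE8.base1 57 CmE8.rb1
  intro r0 hr0
  simp only [CmE8.base1, List.mem_cons, List.not_mem_nil, or_false] at hr0
  subst hr0
  refine ⟨by decide, CmE8.g2_239, CmE8.base2_239, 33, CmE8.rb2_239, ?_⟩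
  intro s hs
  simp only [CmE8.base2_239, List.mem_cons, List.not_mem_nil, or_false] at hs
  rcases hs with rfl | rfl | rfl | rfl | rfl
  · exact base_239
  · exact base_0
  · exact base_1
  · exact base_13
  · exact base_120

section

variable {K : Type*} [Field K]

/-- every central extension of the group presented by (R1), (R2) of type `E₈` splits -/
theorem cover_splits_E8 {Y : Type*} [Group Y] (ψ : Y →* chevE8.SteinbergCover K)
    (hs : Function.Surjective ψ) (hc : Cfsg.Agent.MilnorStein.CentralKer ψ) :
    ∃ φ : chevE8.SteinbergCover K →* Y, ψ.comp φ = MonoidHom.id (chevE8.SteinbergCover K) :=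
  cover_splits slok (by simp) DataE8.agrees ψ hs hc

/-- every stem extension of `E₈(q)` is trivial -/
theorem stem_ker_eq_bot_E8 [Finite K] {Γ : Type*} [Group Γ] (σ : Γ →* ↥(chevE8.group K))
    (hsurj : Function.Surjective σ) (hc : σ.ker ≤ Subgroup.center Γ)
    (hder : σ.ker ≤ commutator Γ) : σ.ker = ⊥ := by
  obtain ⟨e⟩ := exists_cover_equiv_group (K := K) (D := chevE8) (by simp)
  have hsurj' : Function.Surjective (e.symm.toMonoidHom.comp σ) := by
    intro d
    obtain ⟨g, hg⟩ := hsurj (e d)
    refine ⟨g, ?_⟩
    rw [MonoidHom.comp_apply, hg]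
    exact e.symm_apply_apply d
  have hc' : Cfsg.Agent.MilnorStein.CentralKer (e.symm.toMonoidHom.comp σ) := by
    intro z hz y
    have hz' : σ z = 1 := by
      rw [MonoidHom.comp_apply] at hz
      have := congrArg e hz
      rw [map_one] at this
      rw [← this]
      exact (e.apply_symm_apply (σ z)).symm
    exact (Subgroup.mem_center_iff.1 (hc (MonoidHom.mem_ker.2 hz')) y).symm
  obtain ⟨φ, hφ⟩ := cover_splits_E8 (e.symm.toMonoidHom.comp σ) hsurj' hc'
  apply ker_eq_bot_of_section σ (φ.comp e.symm.toMonoidHom) ?_ hc hder
  intro g
  have h1 := DFunLike.congr_fun hφ (e.symm g)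
  simp only [MonoidHom.comp_apply, MonoidHom.id_apply, MulEquiv.coe_toMonoidHom] at h1 ⊢
  have h2 := congrArg e h1
  rw [e.apply_symm_apply, e.apply_symm_apply] at h2
  exact h2

end

end Cfsg.Agent.Lib.Helper5.MS.E8
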