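import Cfsg.Agent.Lib.Helper5.St.Main3
import Cfsg.Agent.Lib.Helper5.St.R3Iso
import Mathlib

/-!
# The groups presented by Steinberg's relations are finite over a finite field (helper5)
-/

set_option autoImplicit false

namespace Cfsg.Agent.Lib.Helper5.MS

open Cfsg.Lie Cfsg.Agent.Lib.Helper5.Chev Cfsg.Agent.Lib.Helper5.St Cfsg.Agent.Lib.Helper5.Tw

section

variable {K : Type*} [Field K] [Finite K] {D : ChevalleyDatum}

/-- the group presented by (R1), (R2), (R3) over a finite field is finite -/
theorem finite_steinbergGroup (hD : D ∈ [chevG2, chevB2, chevD4, chevF4, chevE6, chevE7, chevE8]) :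
    Finite (D.SteinbergGroup K) := by
  classical
  obtain ⟨T, Bs, gH, baseH, fuel, C⟩ := stCtx_known K D hD
  have hmul : ∀ i < D.rank, ∀ t₁ t₂ : K, t₁ ≠ 0 → t₂ ≠ 0 →
      (steinbergRData (K := K) hD).hbar i t₁ * (steinbergRData (K := K) hD).hbar i t₂
        = (steinbergRData (K := K) hD).hbar i (t₁ * t₂) :=
    fun i hi t₁ t₂ h1 h2 => steinberg_hbar_mul hD i hi t₁ t₂ h1 h2
  have hcomm : Pairwise fun i j : Fin D.rank =>
      ∀ x y : Kˣ, Commute ((steinbergRData (K := K) hD).hhom hmul i x)
        ((steinbergRData (K := K) hD).hhom hmul j y) :=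
    fun i j _ x y => (steinbergRData (K := K) hD).hbar_commute C hmul i j i.2 j.2 _ _
      x.ne_zero y.ne_zero
  have hrange : (steinbergRData (K := K) hD).H0
      ≤ (MonoidHom.noncommPiCoprod ((steinbergRData (K := K) hD).hhom hmul) hcomm).range := by
    rw [MonoidHom.noncommPiCoprod_range]
    unfold RData.H0
    rw [Subgroup.closure_le]
    rintro h ⟨i, hi, t, ht, rfl⟩
    have : (steinbergRData (K := K) hD).hbar i t
        ∈ ((steinbergRData (K := K) hD).hhom hmul ⟨i, hi⟩).range := ⟨Units.mk0 t ht, rfl⟩
    exact (le_iSup (fun i => ((steinbergRData (K := K) hD).hhom hmul i).range) ⟨i, hi⟩) this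
  rw [(steinbergRData (K := K) hD).θ.finite_iff_finite_ker_range]
  constructor
  · have hfin : Finite ↥(MonoidHom.noncommPiCoprod
        ((steinbergRData (K := K) hD).hhom hmul) hcomm).range :=
      Finite.of_surjective _ (MonoidHom.rangeRestrict_surjective _)
    exact Finite.of_injective
      (Subgroup.inclusion (((steinbergRData (K := K) hD).ker_le_H0').trans hrange))
      (Subgroup.inclusion_injective _)
  · have h1 : Finite (Matrix D.Idx D.Idx K) := inferInstance
    have h2 : Finite (GL D.Idx K) := inferInstance
    infer_instance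

/-- the group presented by (R1), (R2) over a finite field is finite -/
theorem finite_steinbergCover (hD : D ∈ [chevG2, chevB2, chevD4, chevF4, chevE6, chevE7, chevE8]) :
    Finite (D.SteinbergCover K) := by
  have := finite_steinbergGroup (K := K) hD
  obtain ⟨e, -⟩ := cover_equiv (K := K) hD
  exact Finite.of_equiv _ e.symm.toEquiv

/-- the Chevalley group over a finite field is finite -/
theorem finite_group : Finite ↥(D.group K) := by
  have h1 : Finite (Matrix D.Idx D.Idx K) := inferInstance
  have h2 : Finite (GL D.Idx K) := inferInstance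
  infer_instance

end

end Cfsg.Agent.Lib.Helper5.MS
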