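import Cfsg.Agent.Lib.Helper5.MS.Pairs
import Cfsg.Agent.Lib.Lead.MilnorSteinC
import Mathlib

/-!
# Instantiation of the abstract Milnor–Stein theorem for the group presented by Steinberg's
relations (R1), (R2) of a simply laced type with room (helper5)
-/

set_option autoImplicit false

namespace Cfsg.Agent.Lib.Helper5.MS

open Cfsg.Lie Cfsg.Agent.Lib.Helper5.Chev Cfsg.Agent.Lib.Helper5.St Cfsg.Agent.Lib.Helper5.Tw
  Cfsg.Agent.Lib.Helper5.UC Cfsg.Agent.MilnorStein
open scoped commutatorElement

section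

variable {D : ChevalleyDatum}

/-- the index of the sum `r + s`, read off the commutator formula of the pair `(s, r)` -/
def addIdx (D : ChevalleyDatum) (r s : ℕ) : ℕ :=
  ((D.commTerms s r).head?.map fun c => c.1).getD 0

/-- the constant with `⁅x_r(t), x_s(u)⁆ = x_{r+s}(N t u)` -/
def coefN (D : ChevalleyDatum) (r s : ℕ) : ℤ :=
  -((D.commTerms s r).head?.map fun c => c.2.1).getD 0

theorem addIdx_eq {r s k : ℕ} {c : ℤ} (h : D.commTerms s r = [(k, c, 1, 1)]) :
    addIdx D r s = k := by
  unfold addIdx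
  rw [h]
  rfl

theorem coefN_eq {r s k : ℕ} {c : ℤ} (h : D.commTerms s r = [(k, c, 1, 1)]) :
    coefN D r s = -c := by
  unfold coefN
  rw [h]
  rfl

/-- the abstract simply laced root system of the datum -/
def slRoots (h : SLOK D) : SLRoots (Fin D.nroots) where
  p α β := pairD D α β
  neg α := ⟨D.neg α, h.neg_lt α α.2⟩
  add α β := if h' : addIdx D α β < D.nroots then ⟨addIdx D α β, h'⟩ else α
  p_self α := h.self α α.2
  p_symm α β := (h.pair α α.2 β β.2).symm
  p_le α β := (h.pair α α.2 β β.2).le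
  eq_of_p α β h2 := Fin.ext ((h.pair α α.2 β β.2).eq h2)
  p_neg α β := (h.pair α α.2 β β.2).neg
  p_add α β hm1 γ := by
    have hm1' : pairD D β α = -1 := by
      rw [← (h.pair α α.2 β β.2).symm]
      exact hm1
    obtain ⟨k, c, hct, hk, -, hpk⟩ := (h.pair β β.2 α α.2).sum hm1'
    have e : addIdx D α β = k := addIdx_eq hct
    rw [dif_pos (by rw [e]; exact hk)]
    show pairD D (addIdx D α β) γ = _
    rw [e, hpk γ γ.2, add_comm]
  room1 α β h0 := by
    obtain ⟨g, hg, h1, h2, h3⟩ := (h.pair α α.2 β β.2).room1 h0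
    exact ⟨⟨g, hg⟩, h1, h2, h3⟩
  room2 γ τ hm1 := by
    obtain ⟨d, hd, h1, h2⟩ := (h.pair γ γ.2 τ τ.2).room2 hm1
    exact ⟨⟨d, hd⟩, h1, h2⟩

theorem slRoots_p (h : SLOK D) (α β : Fin D.nroots) : (slRoots h).p α β = pairD D α β := rfl

theorem slRoots_add (h : SLOK D) {r s k : ℕ} {c : ℤ} (hr : r < D.nroots) (hs : s < D.nroots)
    (hk : k < D.nroots) (hct : D.commTerms s r = [(k, c, 1, 1)]) :
    (slRoots h).add ⟨r, hr⟩ ⟨s, hs⟩ = ⟨k, hk⟩ := by
  have e : addIdx D r s = k := addIdx_eq hct
  show (if h' : addIdx D r s < D.nroots then (⟨addIdx D r s, h'⟩ : Fin D.nroots) else ⟨r, hr⟩) = _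
  rw [dif_pos (by rw [e]; exact hk)]
  exact Fin.ext e

theorem ne_of_pair_neg (h : SLOK D) {r s : ℕ} (hr : r < D.nroots) (hs : s < D.nroots)
    (hm1 : pairD D r s = -1) : s ≠ r ∧ s ≠ D.neg r := by
  constructor
  · rintro rfl
    rw [h.self s hs] at hm1
    omega
  · rintro rfl
    have h1 := (h.pair r hr r hr).neg
    have h2 := (h.pair r hr (D.neg r) (h.neg_lt r hr)).symm
    rw [h2, h1, h.self r hr] at hm1
    omega

variable {K : Type*} [Field K] {Γ : Type*} [Group Γ]

/-- the extension of a family indexed by `Fin nroots` to all indices -/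
def extY {Y : Type*} [One Y] (y : Fin D.nroots → K → Y) (r : ℕ) (t : K) : Y :=
  if hr : r < D.nroots then y ⟨r, hr⟩ t else 1

theorem extY_eq {Y : Type*} [One Y] (y : Fin D.nroots → K → Y) (r : ℕ) (hr : r < D.nroots)
    (t : K) : extY y r t = y ⟨r, hr⟩ t := dif_pos hr

/-- Steinberg's relations in the form used by the abstract theorem -/
noncomputable def stData (h : SLOK D) (R : RData K D Γ) : StData (slRoots h) K Γ where
  x α t := R.X α t
  N α β := ((coefN D α β : ℤ) : K)
  x_add α t u := (R.add α α.2 t u).symm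
  x_comm α β t u h0 := by
    have h0' : 0 ≤ pairD D α β := h0
    by_cases hαβ : β = α
    · subst hαβ
      exact R.X_comm_self β β.2 t u
    · have hne : (β : ℕ) ≠ α := fun e => hαβ (Fin.ext e)
      have hneg : (β : ℕ) ≠ D.neg α := by
        intro e
        have h1 := (h.pair α α.2 α α.2).neg
        have h2 := (h.pair α α.2 (D.neg α) (h.neg_lt α α.2)).symm
        rw [e, h2, h1, h.self α α.2] at h0'
        omega
      have hrel := R.comm α α.2 β β.2 hne hneg t u
      have hct := (h.pair α α.2 β β.2).comm0 h0' hne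
      have hw : D.commWord K α β t u = [] := by
        unfold ChevalleyDatum.commWord
        rw [hct]
        rfl
      rw [hw, wordG_nil, mul_one] at hrel
      exact hrel.symm
  x_sum α β t u hm1 := by
    have hm1a : pairD D α β = -1 := hm1
    have hm1' : pairD D β α = -1 := by
      rw [← (h.pair α α.2 β β.2).symm]
      exact hm1a
    obtain ⟨k, c, hct, hk, -, -⟩ := (h.pair β β.2 α α.2).sum hm1'
    obtain ⟨hne, hneg⟩ := ne_of_pair_neg h β.2 α.2 hm1'
    have hrel := R.comm β β.2 α α.2 hne hneg (-u) (-t)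
    have hw : D.commWord K β α (-u) (-t) = [(k, (c : K) * (- -u) ^ 1 * (-t) ^ 1)] := by
      unfold ChevalleyDatum.commWord
      rw [hct]
      rfl
    rw [hw, wordG_cons, wordG_nil, mul_one, pow_one, pow_one, ← R.X_inv α α.2, ← R.X_inv β β.2]
      at hrel
    have hadd' : (slRoots h).add α β = ⟨k, hk⟩ := slRoots_add h α.2 β.2 hk hct
    rw [hadd']
    show ⁅R.X α t, R.X β u⁆ = R.X k (((coefN D α β : ℤ) : K) * t * u)
    rw [coefN_eq hct]
    have e4 : (((-c : ℤ)) : K) * t * u = (c : K) * (- -u) * (-t) := by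
      push_cast
      ring
    rw [e4, commutatorElement_def]
    calc R.X α t * R.X β u * (R.X α t)⁻¹ * (R.X β u)⁻¹
        = R.X α t * R.X β u * ((R.X α t)⁻¹ * (R.X β u)⁻¹) := by group
      _ = R.X α t * R.X β u * ((R.X β u)⁻¹ * (R.X α t)⁻¹ * R.X k ((c : K) * (- -u) * (-t))) := by
          rw [hrel]
      _ = R.X k ((c : K) * (- -u) * (-t)) := by group
  N_sq α β hm1 := by
    have hm1a : pairD D α β = -1 := hm1
    have hm1' : pairD D β α = -1 := by
      rw [← (h.pair α α.2 β β.2).symm]
      exact hm1a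
    obtain ⟨k, c, hct, -, hcc, -⟩ := (h.pair β β.2 α α.2).sum hm1'
    show ((coefN D α β : ℤ) : K) * ((coefN D α β : ℤ) : K) = 1
    rw [coefN_eq hct]
    have : (((-c : ℤ)) : K) * (((-c : ℤ)) : K) = ((c * c : ℤ) : K) := by
      push_cast
      ring
    rw [this, hcc, Int.cast_one]
  x_inj α t u e := by
    have e' : R.X α t = R.X α u := e
    exact xU_injective R.hadd α (xInj_all D R.hD α α.2) t u
      (by rw [← R.hθ α α.2 t, ← R.hθ α α.2 u, e'])

/-- **Milnor–Stein** for the group presented by (R1), (R2): every central extension splits,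
over every field -/
theorem cover_splits (h : SLOK D)
    (hD : D ∈ [chevG2, chevB2, chevD4, chevF4, chevE6, chevE7, chevE8]) {T : FD}
    (hA : T.Agrees D) {Y : Type*} [Group Y] (ψ : Y →* D.SteinbergCover K)
    (hs : Function.Surjective ψ) (hc : CentralKer ψ) :
    ∃ φ : D.SteinbergCover K →* Y, ψ.comp φ = MonoidHom.id (D.SteinbergCover K) := by
  apply splits (stData h (coverRData (K := K) hD)) hs hc
  · rw [eq_top_iff, ← (coverRData (K := K) hD).gen]
    apply Subgroup.closure_mono
    rintro g ⟨r, hr, t, rfl⟩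
    exact ⟨⟨r, hr⟩, t, rfl⟩
  · intro y hadd hcomm hsum
    have hzero : ∀ α : Fin D.nroots, y α 0 = 1 := by
      intro α
      have := hadd α 0 0
      rw [add_zero] at this
      exact mul_eq_left.1 this.symm
    have hinv : ∀ (α : Fin D.nroots) (v : K), y α (-v) = (y α v)⁻¹ := by
      intro α v
      have := hadd α (-v) v
      rw [neg_add_cancel, hzero] at this
      exact eq_inv_of_mul_eq_one_left this.symm
    have h1 : ∀ r < D.nroots, Rel1 (extY y) r := by
      intro r hr t u
      rw [extY_eq y r hr, extY_eq y r hr, extY_eq y r hr, hadd]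
    have h2 : ∀ r < D.nroots, ∀ s < D.nroots, s ≠ r → s ≠ D.neg r → Rel2 (extY y) D r s := by
      intro r hr s hs hne hneg t u
      rw [extY_eq y r hr, extY_eq y s hs]
      have hP := h.pair r hr s hs
      have hle1 : pairD D r s ≤ 1 := by
        have h3 := hP.le
        by_contra hcon
        have h4 : pairD D r s = 2 := by omega
        exact hne (hP.eq h4).symm
      have hge : -1 ≤ pairD D r s := by
        have hP' := h.pair (D.neg r) (h.neg_lt r hr) s hs
        have h3 := hP'.le
        rw [hP.neg] at h3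
        by_contra hcon
        have h4 : pairD D (D.neg r) s = 2 := by rw [hP.neg]; omega
        exact hneg (hP'.eq h4).symm
      by_cases h0 : 0 ≤ pairD D r s
      · have hct := hP.comm0 h0 hne
        have hw : D.commWord K r s t u = [] := by
          unfold ChevalleyDatum.commWord
          rw [hct]
          rfl
        rw [hw, wordG_nil, mul_one]
        exact ((hcomm ⟨r, hr⟩ ⟨s, hs⟩ t u h0).eq).symm
      · have hm1 : pairD D r s = -1 := by omega
        obtain ⟨k, c, hct, hk, hcc, hpk⟩ := hP.sum hm1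
        have hw : D.commWord K r s t u = [(k, (c : K) * (-t) ^ 1 * u ^ 1)] := by
          unfold ChevalleyDatum.commWord
          rw [hct]
          rfl
        rw [hw, wordG_cons, wordG_nil, mul_one]
        dsimp only
        rw [extY_eq y k hk, pow_one, pow_one]
        have hm1' : (slRoots h).p ⟨s, hs⟩ ⟨r, hr⟩ = -1 := by
          show pairD D s r = -1
          rw [← hP.symm]
          exact hm1
        have h3 := hsum ⟨s, hs⟩ ⟨r, hr⟩ (-u) (-t) hm1'
        have hadd' : (slRoots h).add ⟨s, hs⟩ ⟨r, hr⟩ = ⟨k, hk⟩ := slRoots_add h hs hr hk hct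
        have hN : (stData h (coverRData (K := K) hD)).N ⟨s, hs⟩ ⟨r, hr⟩ = -(c : K) := by
          show ((coefN D s r : ℤ) : K) = _
          rw [coefN_eq hct]
          push_cast
          rfl
        rw [hadd', hN, hinv, hinv] at h3
        have e4 : -(c : K) * (-u) * (-t) = (c : K) * (-t) * u := by ring
        rw [e4] at h3
        rw [← h3, commutatorElement_def]
        group
    obtain ⟨τ, hτ⟩ := exists_hom_of_rel (extY y) hA h1 h2
    refine ⟨τ, fun α t => ?_⟩
    show τ ((coverRData (K := K) hD).X α t) = y α t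
    rw [coverRData_X, hτ α α.2 t, extY_eq y α α.2 t]

end

end Cfsg.Agent.Lib.Helper5.MS
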