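import Cfsg.Agent.Lib.Helper5.UC.Main
import Mathlib

/-!
# Pair-level facts on the root tables of a simply laced type, by transport along the Weyl group
(helper5)

Used to instantiate lead's abstract Milnor–Stein theorem for the types `E₆`, `E₇`, `E₈`.
-/

set_option autoImplicit false

namespace Cfsg.Agent.Lib.Helper5.MS

open Cfsg.Lie Cfsg.Agent.Lib.Helper5.Chev Cfsg.Agent.Lib.Helper5.St Cfsg.Agent.Lib.Helper5.Tw
  Cfsg.Agent.Lib.Helper5.UC

section

variable {D : ChevalleyDatum} {T : FD} {Bs : List ℕ}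

/-- two-level induction over the pairs of roots: a property of pairs of roots that is invariant
under the fundamental reflections holds for all pairs if it holds for the representatives -/
theorem pair_all (hA : T.Agrees D) (hB : ∀ i < D.rank, ReflChecks T D i (Bs.getD i 0))
    (P : ℕ → ℕ → Prop)
    (hinv : ∀ i < D.rank, ∀ r < D.nroots, ∀ s < D.nroots,
      P (wOf (Bs.getD i 0) r) (wOf (Bs.getD i 0) s) → P r s)
    (g1 : ℕ) (base1 : List ℕ) (fuel1 : ℕ) (hr1 : reachb T Bs g1 base1 fuel1 = true)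
    (hrow : ∀ r0 ∈ base1, r0 < D.nroots ∧ ∃ (g2 : ℕ) (base2 : List ℕ) (fuel2 : ℕ),
      reachFb T Bs g2 base2 r0 fuel2 = true ∧ ∀ s ∈ base2, P r0 s) :
    ∀ r < D.nroots, ∀ s < D.nroots, P r s := by
  apply reach_all hA (fun r => ∀ s < D.nroots, P r s) Bs g1 base1 fuel1 hr1
  · intro r0 hr0
    obtain ⟨hr0lt, g2, base2, fuel2, hrF, hb2⟩ := hrow r0 hr0
    apply reachF_all hA (fun s => P r0 s) Bs g2 base2 r0 fuel2 hrF hb2
    · intro i hi s hs
      exact ((hB i hi).cert hA).w_lt s hs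
    · intro i hi hfix s hs h
      apply hinv i hi r0 hr0lt s hs
      rw [hfix]
      exact h
  · intro i hi s hs
    exact ((hB i hi).cert hA).w_lt s hs
  · intro i hi r hr h s hs
    exact hinv i hi r hr s hs (h _ (((hB i hi).cert hA).w_lt s hs))

/-- the pair-level facts for the Milnor–Stein argument (simply laced types) -/
structure PairOK (D : ChevalleyDatum) (r s : ℕ) : Prop where
  symm : pairD D r s = pairD D s r
  le : pairD D r s ≤ 2
  eq : pairD D r s = 2 → r = s
  neg : pairD D (D.neg r) s = - pairD D r s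
  comm0 : 0 ≤ pairD D r s → s ≠ r → D.commTerms r s = []
  sum : pairD D r s = -1 → ∃ (k : ℕ) (c : ℤ), D.commTerms r s = [(k, c, 1, 1)] ∧ k < D.nroots ∧
    c * c = 1 ∧ ∀ ξ < D.nroots, pairD D k ξ = pairD D r ξ + pairD D s ξ
  room1 : 0 ≤ pairD D r s → ∃ g < D.nroots, pairD D g r = 1 ∧ 0 ≤ pairD D g s ∧
    pairD D g s ≤ pairD D r s
  room2 : pairD D r s = -1 → ∃ d < D.nroots, pairD D d r = -1 ∧ pairD D d s = 1

theorem sq_of_pm {a : ℤ} (h : a = 1 ∨ a = -1) : a * a = 1 := by
  rcases h with rfl | rfl <;> norm_num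

/-- the facts are invariant under the fundamental reflections -/
theorem PairOK.transfer (hA : T.Agrees D) (hB : ∀ i < D.rank, ReflChecks T D i (Bs.getD i 0))
    (hcw : CommW T D Bs) (i : ℕ) (hi : i < D.rank) (r s : ℕ) (hr : r < D.nroots)
    (hs : s < D.nroots) (h : PairOK D (wOf (Bs.getD i 0) r) (wOf (Bs.getD i 0) s)) :
    PairOK D r s := by
  have hcert := (hB i hi).cert hA
  have hpi := (hB i hi).pair_inv hA
  have hwr := hcert.w_lt r hr
  have hws := hcert.w_lt s hs
  have hprs : pairD D (wOf (Bs.getD i 0) r) (wOf (Bs.getD i 0) s) = pairD D r s := hpi r s hr hs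
  have hpsr : pairD D (wOf (Bs.getD i 0) s) (wOf (Bs.getD i 0) r) = pairD D s r := hpi s r hs hr
  have hp' : ∀ g < D.nroots, ∀ v < D.nroots,
      pairD D (wOf (Bs.getD i 0) g) v = pairD D g (wOf (Bs.getD i 0) v) := by
    intro g hg v hv
    rw [← hpi (wOf (Bs.getD i 0) g) v (hcert.w_lt g hg) hv, hcert.w_w g hg]
  refine ⟨?_, ?_, ?_, ?_, ?_, ?_, ?_, ?_⟩
  · rw [← hprs, ← hpsr]
    exact h.symm
  · rw [← hprs]
    exact h.le
  · intro h2
    rw [← hprs] at h2
    have h3 := h.eq h2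
    rw [← hcert.w_w r hr, h3, hcert.w_w s hs]
  · have hnr : D.neg r < D.nroots := by
      rw [FD.neg_eq' hA r hr]
      exact hA.neg_lt r hr
    have e : D.neg (wOf (Bs.getD i 0) r) = wOf (Bs.getD i 0) (D.neg r) := by
      rw [FD.neg_eq' hA _ hwr, FD.neg_eq' hA r hr, hcert.neg_w r hr]
    have h2 := h.neg
    rw [e, hpi (D.neg r) s hnr hs, hprs] at h2
    exact h2
  · intro h0 hne
    have hne' : wOf (Bs.getD i 0) s ≠ wOf (Bs.getD i 0) r := by
      intro e
      apply hne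
      rw [← hcert.w_w s hs, e, hcert.w_w r hr]
    have h1 := h.comm0 (by rw [hprs]; exact h0) hne'
    rw [FD.commTerms_eq hA _ _ hwr hws, hcw i hi r hr s hs, List.map_eq_nil_iff] at h1
    rw [FD.commTerms_eq hA r s hr hs]
    exact h1
  · intro hm1
    obtain ⟨k', c', hct, hk', hc', hpk⟩ := h.sum (by rw [hprs]; exact hm1)
    rw [FD.commTerms_eq hA _ _ hwr hws, hcw i hi r hr s hs, List.map_eq_singleton_iff] at hct
    obtain ⟨x, hx, hφ⟩ := hct
    obtain ⟨k, c, i', j'⟩ := x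
    unfold phiW at hφ
    simp only [Prod.mk.injEq] at hφ
    obtain ⟨hk1, hc1, hi1, hj1⟩ := hφ
    subst hi1 hj1
    have hk : k < D.nroots :=
      FD.commTerms_lt hA r s hr hs (k, c, 1, 1) (by rw [hx]; exact List.mem_singleton_self _)
    refine ⟨k, c, ?_, hk, ?_, ?_⟩
    · rw [FD.commTerms_eq hA r s hr hs, hx]
    · have e1 := sq_of_pm (hcert.eta_pm k hk)
      have e2 := sq_of_pm (hcert.eta_pm r hr)
      have e3 := sq_of_pm (hcert.eta_pm s hs)
      rw [← hc1, pow_one, pow_one] at hc'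
      calc c * c = (etaOf (Bs.getD i 0) k * etaOf (Bs.getD i 0) k) *
            (etaOf (Bs.getD i 0) r * etaOf (Bs.getD i 0) r) *
            (etaOf (Bs.getD i 0) s * etaOf (Bs.getD i 0) s) * (c * c) := by
              rw [e1, e2, e3]; ring
        _ = (etaOf (Bs.getD i 0) k * etaOf (Bs.getD i 0) r * etaOf (Bs.getD i 0) s * c) *
            (etaOf (Bs.getD i 0) k * etaOf (Bs.getD i 0) r * etaOf (Bs.getD i 0) s * c) := by
              ring
        _ = 1 := hc'
    · intro ξ hξ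
      rw [← hpi k ξ hk hξ, hk1, hpk _ (hcert.w_lt ξ hξ), hpi r ξ hr hξ, hpi s ξ hs hξ]
  · intro h0
    obtain ⟨g', hg', h1, h2, h3⟩ := h.room1 (by rw [hprs]; exact h0)
    refine ⟨wOf (Bs.getD i 0) g', hcert.w_lt g' hg', ?_, ?_, ?_⟩
    · rw [hp' g' hg' r hr]
      exact h1
    · rw [hp' g' hg' s hs]
      exact h2
    · rw [hp' g' hg' s hs, ← hprs]
      exact h3
  · intro hm1
    obtain ⟨d', hd', h1, h2⟩ := h.room2 (by rw [hprs]; exact hm1)
    refine ⟨wOf (Bs.getD i 0) d', hcert.w_lt d' hd', ?_, ?_⟩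
    · rw [hp' d' hd' r hr]
      exact h1
    · rw [hp' d' hd' s hs]
      exact h2

/-- all the table facts of a simply laced type used below -/
structure SLOK (D : ChevalleyDatum) : Prop where
  neg_lt : ∀ r < D.nroots, D.neg r < D.nroots
  self : ∀ r < D.nroots, pairD D r r = 2
  pair : ∀ r < D.nroots, ∀ s < D.nroots, PairOK D r s

/-- the facts for all pairs from the facts for the representatives -/
theorem slok_of_base {K : Type*} [Field K] {gH : ℕ} {baseH : List ℕ} {fuel : ℕ}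
    (U : UCtx K D T Bs gH baseH fuel)
    (g1 : ℕ) (base1 : List ℕ) (fuel1 : ℕ) (hr1 : reachb T Bs g1 base1 fuel1 = true)
    (hrow : ∀ r0 ∈ base1, r0 < D.nroots ∧ ∃ (g2 : ℕ) (base2 : List ℕ) (fuel2 : ℕ),
      reachFb T Bs g2 base2 r0 fuel2 = true ∧ ∀ s ∈ base2, PairOK D r0 s) : SLOK D := by
  refine ⟨fun r hr => ?_, (pfacts_of_check U.C U.pf).self, ?_⟩
  · rw [FD.neg_eq' U.C.hA r hr]
    exact U.C.hA.neg_lt r hr
  · exact pair_all U.C.hA U.C.hB (PairOK D)
      (fun i hi r hr s hs h => PairOK.transfer U.C.hA U.C.hB U.cw i hi r s hr hs h)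
      g1 base1 fuel1 hr1 hrow

end

end Cfsg.Agent.Lib.Helper5.MS
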