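import Cfsg.Agent.Lib.Lead.MilnorSteinC
import Mathlib

/-!
# A group with root elements satisfying the simply laced Steinberg relations (with room) is perfect,
over every commutative ring (helper5)
-/

set_option autoImplicit false

namespace Cfsg.Agent.Lib.Helper5.MS

open Cfsg.Agent.MilnorStein
open scoped commutatorElement

/-- every root element is a commutator `x_α(t) = ⁅x_γ(N t), x_{α-γ}(1)⁆`, hence the group is perfect -/
theorem stData_perfect {Φ : Type*} {R : SLRoots Φ} {K : Type*} [CommRing K] {Δ : Type*} [Group Δ]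
    (S : StData R K Δ) (hgen : Subgroup.closure {g : Δ | ∃ α t, g = S.x α t} = ⊤) :
    commutator Δ = ⊤ := by
  rw [eq_top_iff, ← hgen, Subgroup.closure_le]
  rintro g ⟨α, t, rfl⟩
  obtain ⟨γ, h1, -, -⟩ := R.room1 α α (by rw [R.p_self]; norm_num)
  have hγδ : R.p γ (R.sub α γ) = -1 := R.p_sub_self h1
  have hadd : R.add γ (R.sub α γ) = α := R.add_sub h1
  have hsum := S.x_sum γ (R.sub α γ) (S.N γ (R.sub α γ) * t) 1 hγδ
  rw [hadd] at hsum
  have hN := S.N_sq γ _ hγδ
  have e : S.N γ (R.sub α γ) * (S.N γ (R.sub α γ) * t) * 1 = t := by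
    calc S.N γ (R.sub α γ) * (S.N γ (R.sub α γ) * t) * 1
        = (S.N γ (R.sub α γ) * S.N γ (R.sub α γ)) * t := by ring
      _ = t := by rw [hN, one_mul]
  rw [e] at hsum
  rw [SetLike.mem_coe, ← hsum, commutator_def]
  exact Subgroup.commutator_mem_commutator (Subgroup.mem_top _) (Subgroup.mem_top _)

end Cfsg.Agent.Lib.Helper5.MS
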